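import Cfsg.Agent.Lib.AutPSL.Split

/-!
# Centralisers of field automorphisms in `Inndiag(PSL_n(F))`.
-/

set_option autoImplicit false

namespace Cfsg.Agent.Lib.AutPSL

open Matrix
open scoped MatrixGroups
open Cfsg.Agent.Lib.Hilbert90

variable {F : Type*} [Field F] {n : ℕ}

lemma commute_dl_fa_iff (hn : 2 ≤ n) (u : GL (Fin n) F) (σ : F ≃+* F) :
    Commute (dl u) (fa σ) ↔ ∃ c : Fˣ, u = glMap σ u * Matrix.GeneralLinearGroup.scalar (Fin n) c := by
  change dl u * fa σ = fa σ * dl u ↔ _
  rw [dl_mul_fa, fa_mul_dl, csAut_eq_csAut_iff hn]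
  simp

/-- A scalar multiple of `u` is fixed by `σ`. -/
lemma exists_fixed_of_commute (hn : 1 ≤ n) (σ : F ≃+* F) {r : ℕ} (hr : 0 < r) (hord : orderOf σ = r) (u : GL (Fin n) F)
    {c : Fˣ} (h : u = glMap σ u * Matrix.GeneralLinearGroup.scalar (Fin n) c) :
    ∃ d : Fˣ, glMap σ (u * Matrix.GeneralLinearGroup.scalar (Fin n) d) = u * Matrix.GeneralLinearGroup.scalar (Fin n) d := by
  have hσr : σ ^ r = 1 := by rw [← hord]; exact pow_orderOf_eq_one σ
  have h1 : glMap σ u = u * Matrix.GeneralLinearGroup.scalar (Fin n) c⁻¹ := by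
    conv_rhs => rw [h]
    rw [mul_assoc, ← map_mul, mul_inv_cancel, map_one, mul_one]
  have h2 : ∀ i j, σ ((u : Matrix (Fin n) (Fin n) F) i j) = ((c⁻¹ : Fˣ) : F) * (u : Matrix (Fin n) (Fin n) F) i j := by
    intro i j
    have h3 := congrArg (fun g : GL (Fin n) F => (g : Matrix (Fin n) (Fin n) F) i j) h1
    simp only [glMap_coe, Matrix.map_apply, Units.val_mul, scalar_coe, Matrix.mul_smul, Matrix.mul_one, Matrix.smul_apply, smul_eq_mul] at h3
    rw [h3, mul_comm]
  obtain ⟨i, j, hij⟩ := exists_entry_ne_zero hn u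
  have hN := pnorm_eq_one_of_fixed σ hσr hij (h2 i j)
  obtain ⟨d, hd, hcd⟩ := exists_of_pnorm_eq_one σ hr hord hN
  refine ⟨Units.mk0 d hd, ?_⟩
  rw [map_mul, h1, glMap_scalar, mul_assoc, ← map_mul]
  congr 2
  apply Units.ext
  simpa using hcd

/-- A diagonal matrix. -/
noncomputable def dg (i₀ : Fin n) (t : Fˣ) : GL (Fin n) F :=
  Matrix.GeneralLinearGroup.mkOfDetNeZero (Matrix.diagonal (fun i => if i = i₀ then (t : F) else 1)) (by
    rw [Matrix.det_diagonal, Finset.prod_ite_eq' Finset.univ i₀ (fun _ => (t : F))]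
    simp)

lemma dg_coe (i₀ : Fin n) (t : Fˣ) :
    (dg i₀ t : Matrix (Fin n) (Fin n) F) = Matrix.diagonal (fun i => if i = i₀ then (t : F) else 1) := rfl

lemma dg_det (i₀ : Fin n) (t : Fˣ) : Matrix.GeneralLinearGroup.det (dg i₀ t) = t := by
  apply Units.ext
  rw [Matrix.GeneralLinearGroup.val_det_apply, dg_coe, Matrix.det_diagonal, Finset.prod_ite_eq' Finset.univ i₀ (fun _ => (t : F))]
  simp

lemma glMap_dg (σ : F ≃+* F) (i₀ : Fin n) (t : Fˣ) :
    glMap σ (dg i₀ t) = dg i₀ (Units.map (σ : F →* F) t) := by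
  apply Units.ext
  rw [glMap_coe, dg_coe, dg_coe]
  ext i j
  by_cases hij : i = j
  · subst hij
    by_cases hi : i = i₀ <;> simp [hi]
  · simp [hij]

/-- Determinants of elements commuting with `fa σ`. -/
theorem field_count [Fintype F] (hn : 2 ≤ n) (σ : F ≃+* F) {r : ℕ} (hr : 0 < r) (hord : orderOf σ = r) :
    Cfsg.splitClassCount (Cfsg.inndiagPSL n F) (Cfsg.Inn (ProjectiveSpecialLinearGroup (Fin n) F)) (fa σ) =
      Nat.gcd (Nat.card (coB σ).range) n := by
  set i₀ : Fin n := ⟨0, by omega⟩ with hi₀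
  have hT : ∀ t : Fˣ, t ∈ (coB σ).ker ↔ Units.map (σ : F →* F) t = t := by
    intro t
    rw [MonoidHom.mem_ker]
    change t / Units.map (σ : F →* F) t = 1 ↔ _
    rw [div_eq_one, eq_comm]
  rw [count_of_T hn (fa σ) (coB σ).ker]
  · congr 1
    have h1 := Subgroup.card_mul_index (coB σ).ker
    rw [Subgroup.index_ker] at h1
    rw [← h1, Nat.mul_div_cancel_left _ Nat.card_pos]
  · intro t ht
    refine ⟨dg i₀ t, ?_, dg_det i₀ t⟩
    rw [commute_dl_fa_iff hn]
    refine ⟨1, ?_⟩
    rw [map_one, mul_one, glMap_dg, (hT t).mp ht]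
  · intro u hu
    obtain ⟨c, hc⟩ := (commute_dl_fa_iff hn u σ).mp hu
    obtain ⟨d, hd⟩ := exists_fixed_of_commute (by omega) σ hr hord u hc
    refine ⟨d⁻¹, Matrix.GeneralLinearGroup.det (u * Matrix.GeneralLinearGroup.scalar (Fin n) d), ?_, ?_⟩
    · rw [hT]
      have h1 := Matrix.GeneralLinearGroup.map_det (σ : F →+* F) (u * Matrix.GeneralLinearGroup.scalar (Fin n) d)
      have h2 : Matrix.GeneralLinearGroup.map (σ : F →+* F) (u * Matrix.GeneralLinearGroup.scalar (Fin n) d) = u * Matrix.GeneralLinearGroup.scalar (Fin n) d := hd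
      rw [h2] at h1
      exact h1.symm
    · rw [map_mul, Matrix.GeneralLinearGroup.det_scalar, Fintype.card_fin, inv_pow]
      rw [mul_comm, mul_assoc, mul_inv_cancel, mul_one]

section Descent

variable {F₀ : Type*} [Field F₀] [Fintype F₀] [Fintype F]

lemma commute_dl_map (hn : 2 ≤ n) (σ : F ≃+* F) (ι : F₀ →+* F) (hι : ∀ x, σ (ι x) = ι x) (g : GL (Fin n) F₀) :
    Commute (dl (Matrix.GeneralLinearGroup.map ι g)) (fa σ) := by
  rw [commute_dl_fa_iff hn]
  refine ⟨1, ?_⟩
  rw [map_one, mul_one]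
  apply Units.ext
  rw [glMap_coe]
  ext i j
  exact (hι _).symm

/-- The centraliser of `fa σ`. -/
theorem field_cent_equiv (hn : 2 ≤ n) (σ : F ≃+* F) {r : ℕ} (hr : 0 < r) (hord : orderOf σ = r)
    (hF₀ : Fintype.card F₀ = Nat.card (fixedF σ)) :
    Nonempty (↥(Cfsg.inndiagPSL n F ⊓ Subgroup.centralizer {(fa σ : MulAut (ProjectiveSpecialLinearGroup (Fin n) F))}) ≃*
      Matrix.ProjGenLinGroup (Fin n) F₀) := by
  classical
  haveI : Fintype (fixedF σ) := Fintype.ofFinite _
  have hcard : Fintype.card F₀ = Fintype.card (fixedF σ) := by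
    rw [hF₀, Nat.card_eq_fintype_card]
  let e₀ : F₀ ≃+* fixedF σ := FiniteField.ringEquivOfCardEq hcard
  let ι : F₀ →+* F := (fixedF σ).subtype.comp e₀.toRingHom
  have hι : ∀ x, σ (ι x) = ι x := fun x => (e₀ x).2
  have hιinj : Function.Injective ι := ι.injective
  have hmem : ∀ g : GL (Fin n) F₀, dlHom (Matrix.GeneralLinearGroup.map ι g) ∈
      Cfsg.inndiagPSL n F ⊓ Subgroup.centralizer {(fa σ : MulAut (ProjectiveSpecialLinearGroup (Fin n) F))} := by
    intro g
    refine ⟨dl_mem_inndiag _, ?_⟩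
    change dl _ ∈ Subgroup.centralizer {(fa σ : MulAut (ProjectiveSpecialLinearGroup (Fin n) F))}
    rw [Subgroup.mem_centralizer_singleton_iff]
    exact commute_dl_map hn σ ι hι g
  let P : GL (Fin n) F₀ →* ↥(Cfsg.inndiagPSL n F ⊓ Subgroup.centralizer {(fa σ : MulAut (ProjectiveSpecialLinearGroup (Fin n) F))}) :=
    (dlHom.comp (Matrix.GeneralLinearGroup.map ι)).codRestrict _ hmem
  have hP : ∀ g, ((P g : ↥(Cfsg.inndiagPSL n F ⊓ Subgroup.centralizer {(fa σ : MulAut (ProjectiveSpecialLinearGroup (Fin n) F))})) : MulAut (ProjectiveSpecialLinearGroup (Fin n) F)) = dl (Matrix.GeneralLinearGroup.map ι g) := fun _ => rfl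
  have hsurj : Function.Surjective P := by
    rintro ⟨β, hβ1, hβ2⟩
    obtain ⟨u, rfl⟩ := (mem_inndiag_iff β).mp hβ1
    have hβ2' : dl u ∈ Subgroup.centralizer {(fa σ : MulAut (ProjectiveSpecialLinearGroup (Fin n) F))} := hβ2
    rw [Subgroup.mem_centralizer_singleton_iff] at hβ2'
    obtain ⟨c, hc⟩ := (commute_dl_fa_iff hn u σ).mp hβ2'
    obtain ⟨d, hd⟩ := exists_fixed_of_commute (by omega) σ hr hord u hc
    set u' := u * Matrix.GeneralLinearGroup.scalar (Fin n) d with hu'
    have hfix : ∀ i j, (u' : Matrix (Fin n) (Fin n) F) i j ∈ fixedF σ := by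
      intro i j
      have h1 := congrArg (fun g : GL (Fin n) F => (g : Matrix (Fin n) (Fin n) F) i j) hd
      exact h1
    let M : Matrix (Fin n) (Fin n) F₀ := fun i j => e₀.symm ⟨(u' : Matrix (Fin n) (Fin n) F) i j, hfix i j⟩
    have hM : M.map ι = u' := by
      ext i j
      change ((e₀ (e₀.symm ⟨(u' : Matrix (Fin n) (Fin n) F) i j, hfix i j⟩) : fixedF σ) : F) = _
      simp
    have hdet : M.det ≠ 0 := by
      intro h0
      have h1 : (M.map ι).det = ι M.det := (RingHom.map_det ι M).symm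
      rw [hM, h0, map_zero] at h1
      have h2 := (Matrix.GeneralLinearGroup.det u').ne_zero
      exact h2 h1
    refine ⟨Matrix.GeneralLinearGroup.mkOfDetNeZero M hdet, ?_⟩
    apply Subtype.ext
    rw [hP]
    have h3 : Matrix.GeneralLinearGroup.map ι (Matrix.GeneralLinearGroup.mkOfDetNeZero M hdet) = u' := by
      apply Units.ext
      exact hM
    rw [h3, hu']
    exact csAut_scalar_mul _ _ _
  have hker : Subgroup.center (GL (Fin n) F₀) = P.ker := by
    ext g
    rw [MonoidHom.mem_ker]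
    constructor
    · intro hg
      rw [Matrix.GeneralLinearGroup.center_eq_range_scalar] at hg
      obtain ⟨c, rfl⟩ := hg
      apply Subtype.ext
      rw [hP]
      have h1 : Matrix.GeneralLinearGroup.map ι (Matrix.GeneralLinearGroup.scalar (Fin n) c) =
          1 * Matrix.GeneralLinearGroup.scalar (Fin n) (Units.map (ι : F₀ →* F) c) := by
        apply Units.ext
        rw [one_mul, scalar_coe]
        ext i j
        by_cases hij : i = j
        · subst hij
          simp [scalar_coe]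
        · simp [scalar_coe, hij]
      rw [h1]
      exact (csAut_scalar_mul _ _ _).trans csAut_one
    · intro hg
      have h0 : dl (Matrix.GeneralLinearGroup.map ι g) = 1 := by
        rw [← hP, hg]
        rfl
      obtain ⟨-, c, hc⟩ := eq_of_csAut_eq_one hn h0
      have hoff : ∀ i j, i ≠ j → (g : Matrix (Fin n) (Fin n) F₀) i j = 0 := by
        intro i j hij
        have h1 := congrArg (fun g : GL (Fin n) F => (g : Matrix (Fin n) (Fin n) F) i j) hc
        simp only [scalar_coe, Matrix.smul_apply, Matrix.one_apply_ne hij, smul_zero] at h1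
        apply hιinj
        rw [map_zero]
        exact h1
      have hdiag : ∀ i j, (g : Matrix (Fin n) (Fin n) F₀) i i = (g : Matrix (Fin n) (Fin n) F₀) j j := by
        intro i j
        apply hιinj
        have h1 := congrArg (fun g : GL (Fin n) F => (g : Matrix (Fin n) (Fin n) F) i i) hc
        have h2 := congrArg (fun g : GL (Fin n) F => (g : Matrix (Fin n) (Fin n) F) j j) hc
        simp only [scalar_coe, Matrix.smul_apply, Matrix.one_apply_eq, smul_eq_mul, mul_one] at h1 h2
        exact h1.trans h2.symm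
      rw [Matrix.GeneralLinearGroup.center_eq_range_scalar]
      set i₀ : Fin n := ⟨0, by omega⟩ with hi₀
      have hne : (g : Matrix (Fin n) (Fin n) F₀) i₀ i₀ ≠ 0 := by
        intro h3
        have h4 : (g : Matrix (Fin n) (Fin n) F₀) = 0 := by
          ext i j
          by_cases hij : i = j
          · subst hij
            rw [hdiag i i₀, h3]
            rfl
          · rw [hoff i j hij]
            rfl
        have h5 := (Matrix.GeneralLinearGroup.det g).ne_zero
        apply h5
        rw [Matrix.GeneralLinearGroup.val_det_apply, h4]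
        haveI : Nonempty (Fin n) := ⟨i₀⟩
        exact Matrix.det_zero
      refine ⟨Units.mk0 _ hne, ?_⟩
      apply Units.ext
      rw [scalar_coe]
      ext i j
      by_cases hij : i = j
      · subst hij
        simp [hdiag i i₀]
      · simp [hoff i j hij, hij]
  exact ⟨((QuotientGroup.quotientMulEquivOfEq hker).trans (QuotientGroup.quotientKerEquivOfSurjective P hsurj)).symm⟩

end Descent

end Cfsg.Agent.Lib.AutPSL
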