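import Cfsg.Agent.Lib.AutPSL.GraphInv
import Cfsg.Agent.Lib.QuadFF2
import Cfsg.Agent.Lib.QuadGram
import Cfsg.Agent.Lib.SympBasis

/-!
# Congruence classes of bilinear forms over finite fields, in matrix language.
-/

set_option autoImplicit false

namespace Cfsg.Agent.Lib.AutPSL

open Matrix Module QuadraticMap
open scoped MatrixGroups

variable {F : Type*} [Field F] {n : ℕ}

lemma mul_form_entry (G B : Matrix (Fin n) (Fin n) F) (i j : Fin n) :
    (Gᵀ * B * G) i j = (G *ᵥ ee i) ⬝ᵥ (B *ᵥ (G *ᵥ ee j)) := by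
  have h1 : G *ᵥ ee i = ee i ᵥ* Gᵀ := (Matrix.vecMul_transpose _ _).symm
  rw [h1, ← Matrix.dotProduct_mulVec, Matrix.mulVec_mulVec, Matrix.mulVec_mulVec, single_one_dotProduct,
    Matrix.mulVec_single_one, Matrix.mul_assoc]
  rfl

/-- A congruence from a linear equivalence. -/
lemma congr_of_equiv (A B : Matrix (Fin n) (Fin n) F) (g : (Fin n → F) ≃ₗ[F] (Fin n → F))
    (h : ∀ x y, g x ⬝ᵥ (B *ᵥ g y) = x ⬝ᵥ (A *ᵥ y)) :
    ∃ P : GL (Fin n) F, (P : Matrix (Fin n) (Fin n) F) * B * (P : Matrix (Fin n) (Fin n) F)ᵀ = A := by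
  let G := LinearMap.toMatrix' (g : (Fin n → F) →ₗ[F] (Fin n → F))
  let G' := LinearMap.toMatrix' (g.symm : (Fin n → F) →ₗ[F] (Fin n → F))
  have h1 : G * G' = 1 := by
    rw [← LinearMap.toMatrix'_comp]
    simp
  have h2 : G' * G = 1 := by
    rw [← LinearMap.toMatrix'_comp]
    simp
  refine ⟨⟨Gᵀ, G'ᵀ, ?_, ?_⟩, ?_⟩
  · rw [← Matrix.transpose_mul, h2, Matrix.transpose_one]
  · rw [← Matrix.transpose_mul, h1, Matrix.transpose_one]
  · ext i j
    change (Gᵀ * B * Gᵀᵀ) i j = A i j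
    rw [Matrix.transpose_transpose, mul_form_entry]
    have hG : ∀ x, G *ᵥ x = g x := fun x => LinearMap.toMatrix'_mulVec _ x
    rw [hG, hG, h, single_one_dotProduct, Matrix.mulVec_single_one]
    rfl

/-- The quadratic form `v ↦ v ⬝ᵥ A *ᵥ v`. -/
noncomputable def qOf (A : Matrix (Fin n) (Fin n) F) : QuadraticForm F (Fin n → F) :=
  LinearMap.BilinMap.toQuadraticMap (Matrix.toBilin' A)

lemma qOf_apply (A : Matrix (Fin n) (Fin n) F) (v : Fin n → F) : qOf A v = v ⬝ᵥ (A *ᵥ v) := by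
  simp [qOf, Matrix.toBilin'_apply']

lemma polar_qOf (A : Matrix (Fin n) (Fin n) F) (hA : Aᵀ = A) (x y : Fin n → F) :
    polar (qOf A) x y = 2 * (x ⬝ᵥ (A *ᵥ y)) := by
  have h1 : y ⬝ᵥ (A *ᵥ x) = x ⬝ᵥ (A *ᵥ y) := by
    rw [Matrix.dotProduct_mulVec, ← Matrix.mulVec_transpose, hA, dotProduct_comm]
  simp only [polar, qOf_apply, Matrix.mulVec_add, dotProduct_add, add_dotProduct, h1]
  ring

lemma nd_qOf (h2 : (2 : F) ≠ 0) (A : Matrix (Fin n) (Fin n) F) (hA : Aᵀ = A) (hd : A.det ≠ 0) :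
    Cfsg.Agent.Lib.QuadFF.ND (qOf A) := by
  intro x hx
  apply Matrix.eq_zero_of_vecMul_eq_zero hd
  ext j
  have h3 := hx (ee j)
  rw [polar_qOf A hA] at h3
  have h4 := (mul_eq_zero.mp h3).resolve_left h2
  rw [Matrix.dotProduct_mulVec, dotProduct_comm, single_one_dotProduct] at h4
  exact h4

lemma gram_qOf (A : Matrix (Fin n) (Fin n) F) (hA : Aᵀ = A) :
    (Matrix.of (fun i j : Fin n => polar ⇑(qOf A) (Pi.single i 1) (Pi.single j 1))).det = 2 ^ n * A.det := by
  have h1 : (Matrix.of (fun i j : Fin n => polar ⇑(qOf A) (Pi.single i 1) (Pi.single j 1))) = (2 : F) • A := by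
    ext i j
    rw [Matrix.of_apply, polar_qOf A hA, single_one_dotProduct, Matrix.mulVec_single_one]
    rfl
  rw [h1, Matrix.det_smul, Fintype.card_fin]

/-- Classification of symmetric forms in odd characteristic. -/
theorem exists_congr_sym [Fintype F] (h2 : (2 : F) ≠ 0) (A B : Matrix (Fin n) (Fin n) F) (hA : Aᵀ = A) (hB : Bᵀ = B)
    (hdA : A.det ≠ 0) (hdB : B.det ≠ 0) (hsq : IsSquare (A.det * B.det)) :
    ∃ P : GL (Fin n) F, (P : Matrix (Fin n) (Fin n) F) * A * (P : Matrix (Fin n) (Fin n) F)ᵀ = B := by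
  have h3 : IsSquare ((Matrix.of (fun i j : Fin n => polar ⇑(qOf B) (Pi.single i 1) (Pi.single j 1))).det *
      (Matrix.of (fun i j : Fin n => polar ⇑(qOf A) (Pi.single i 1) (Pi.single j 1))).det) := by
    rw [gram_qOf B hB, gram_qOf A hA]
    obtain ⟨r, hr⟩ := hsq
    refine ⟨2 ^ n * r, ?_⟩
    linear_combination (2 : F) ^ n * 2 ^ n * hr
  obtain ⟨g, hg⟩ := (Cfsg.Agent.Lib.QuadFF2.isometry_iff_disc h2 (qOf B) (qOf A) (nd_qOf h2 B hB hdB) (nd_qOf h2 A hA hdA)).mpr h3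
  apply congr_of_equiv B A g
  intro x y
  have h4 : polar (qOf A) (g x) (g y) = polar (qOf B) x y := by
    simp only [polar, ← map_add, hg]
  rw [polar_qOf A hA, polar_qOf B hB] at h4
  exact mul_left_cancel₀ h2 h4

/-- Classification of alternating forms. -/
theorem exists_congr_alt (A B : Matrix (Fin n) (Fin n) F) (hA : ∀ v, v ⬝ᵥ (A *ᵥ v) = 0) (hB : ∀ v, v ⬝ᵥ (B *ᵥ v) = 0)
    (hdA : A.det ≠ 0) (hdB : B.det ≠ 0) :
    ∃ P : GL (Fin n) F, (P : Matrix (Fin n) (Fin n) F) * A * (P : Matrix (Fin n) (Fin n) F)ᵀ = B := by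
  have hnd : ∀ (C : Matrix (Fin n) (Fin n) F), C.det ≠ 0 → ∀ v, (∀ w, (Matrix.toBilin' C) v w = 0) → v = 0 := by
    intro C hC v hv
    apply Matrix.eq_zero_of_vecMul_eq_zero hC
    ext j
    have h3 := hv (ee j)
    rw [Matrix.toBilin'_apply', Matrix.dotProduct_mulVec, dotProduct_comm, single_one_dotProduct] at h3
    exact h3
  obtain ⟨a, sA, hsA⟩ := Cfsg.Agent.Lib.SympBasis.exists_symp_basis (Matrix.toBilin' A) (by
    intro v
    rw [Matrix.toBilin'_apply']
    exact hA v) (hnd A hdA)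
  obtain ⟨b, sB, hsB⟩ := Cfsg.Agent.Lib.SympBasis.exists_symp_basis (Matrix.toBilin' B) (by
    intro v
    rw [Matrix.toBilin'_apply']
    exact hB v) (hnd B hdB)
  have hab : a = b := by
    have h1 := Module.finrank_eq_card_basis sA
    have h2 := Module.finrank_eq_card_basis sB
    simp only [Fintype.card_prod, Fintype.card_fin] at h1 h2
    omega
  subst hab
  let g : (Fin n → F) ≃ₗ[F] (Fin n → F) := sB.equiv sA (Equiv.refl _)
  apply congr_of_equiv B A g
  have hgb : ∀ i, g (sB i) = sA i := fun i => by simp [g]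
  have h3 : ((Matrix.toBilin' A).compl₁₂ (g : (Fin n → F) →ₗ[F] (Fin n → F)) (g : (Fin n → F) →ₗ[F] (Fin n → F))) = Matrix.toBilin' B := by
    apply sB.ext
    intro i
    apply sB.ext
    intro j
    rw [LinearMap.compl₁₂_apply]
    obtain ⟨i₁, i₂⟩ := i
    obtain ⟨j₁, j₂⟩ := j
    rw [LinearEquiv.coe_coe, hgb, hgb, hsA, hsB]
  intro x y
  have h4 := congrFun (congrArg DFunLike.coe (congrFun (congrArg DFunLike.coe h3) x)) y
  rw [LinearMap.compl₁₂_apply, Matrix.toBilin'_apply', Matrix.toBilin'_apply'] at h4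
  exact h4

/-- Albert's theorem in matrix form: a symmetric non-alternating form in characteristic two is the dot product. -/
theorem exists_congr_one [Finite F] [CharP F 2] (A : Matrix (Fin n) (Fin n) F) (hA : Aᵀ = A) (hd : A.det ≠ 0)
    (hna : ∃ v, v ⬝ᵥ (A *ᵥ v) ≠ 0) :
    ∃ P : GL (Fin n) F, (P : Matrix (Fin n) (Fin n) F) * A * (P : Matrix (Fin n) (Fin n) F)ᵀ = 1 := by
  have hnd : (Matrix.toBilin' A).Nondegenerate := by
    constructor
    · intro v hv
      apply Matrix.eq_zero_of_vecMul_eq_zero hd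
      ext j
      have h3 := hv (ee j)
      rw [Matrix.toBilin'_apply', Matrix.dotProduct_mulVec, dotProduct_comm, single_one_dotProduct] at h3
      exact h3
    · intro v hv
      apply Matrix.eq_zero_of_mulVec_eq_zero hd
      ext j
      have h3 := hv (ee j)
      rw [Matrix.toBilin'_apply', single_one_dotProduct] at h3
      exact h3
  have hS : (Matrix.toBilin' A).IsSymm := by
    constructor
    intro x y
    simp only [Matrix.toBilin'_apply', RingHom.id_apply]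
    rw [Matrix.dotProduct_mulVec, ← Matrix.mulVec_transpose, hA, dotProduct_comm]
  obtain ⟨b, hb⟩ := Cfsg.Agent.Lib.QuadFF2.exists_orthonormal_basis (n := n) (by simp) (Matrix.toBilin' A) hS hnd (by
    obtain ⟨v, hv⟩ := hna
    refine ⟨v, ?_⟩
    rwa [Matrix.toBilin'_apply'])
  let g : (Fin n → F) ≃ₗ[F] (Fin n → F) := (Pi.basisFun F (Fin n)).equiv b (Equiv.refl _)
  apply congr_of_equiv 1 A g
  have hgb : ∀ i, g (Pi.basisFun F (Fin n) i) = b i := fun i => by
    rw [Module.Basis.equiv_apply]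
    rfl
  have h3 : ((Matrix.toBilin' A).compl₁₂ (g : (Fin n → F) →ₗ[F] (Fin n → F)) (g : (Fin n → F) →ₗ[F] (Fin n → F))) = Matrix.toBilin' 1 := by
    apply (Pi.basisFun F (Fin n)).ext
    intro i
    apply (Pi.basisFun F (Fin n)).ext
    intro j
    rw [LinearMap.compl₁₂_apply, LinearEquiv.coe_coe, hgb, hgb, hb, Matrix.toBilin'_apply']
    simp [Pi.basisFun_apply, Matrix.one_apply]
  intro x y
  have h4 := congrFun (congrArg DFunLike.coe (congrFun (congrArg DFunLike.coe h3) x)) y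
  rw [LinearMap.compl₁₂_apply, Matrix.toBilin'_apply', Matrix.toBilin'_apply'] at h4
  exact h4

end Cfsg.Agent.Lib.AutPSL
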