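import Cfsg.Agent.Lib.AutPSL.FieldCent
import Cfsg.Prelude.Def_LieClassical

/-!
# Centralisers of graph-field automorphisms in `Inndiag(PSL_n(F))`.
-/

set_option autoImplicit false

namespace Cfsg.Agent.Lib.AutPSL

open Matrix
open scoped MatrixGroups
open Cfsg.Agent.Lib.Hilbert90

variable {F : Type*} [Field F] {n : ℕ}

/-- An involutory automorphism of a finite field is the `q₀`-power map. -/
theorem inv_aut_eq_pow [Fintype F] {p k : ℕ} [Fact p.Prime] (hF : Fintype.card F = p ^ (2 * k)) (hk : 0 < k)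
    (σ : F ≃+* F) (hord : orderOf σ = 2) (x : F) : σ x = x ^ (p ^ k) := by
  classical
  have hp : p.Prime := Fact.out
  have hσ2 : ∀ x, σ (σ x) = x := by
    intro x
    have h1 : σ ^ 2 = 1 := by rw [← hord]; exact pow_orderOf_eq_one σ
    have h2 := DFunLike.congr_fun h1 x
    rwa [pow_two] at h2
  -- the characteristic
  obtain ⟨p', hp'⟩ := CharP.exists F
  have hpF : CharP F p := by
    obtain ⟨l, hp'prime, hk'⟩ := FiniteField.card F p'
    have h1 : p' ∣ p ^ (2 * k) := by
      rw [← hF, hk']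
      exact dvd_pow_self _ l.ne_zero
    have h2 : p' = p := (Nat.prime_dvd_prime_iff_eq hp'prime hp).mp (hp'prime.dvd_of_dvd_pow h1)
    rwa [h2] at hp'
  set q₀ := p ^ k with hq₀
  have hq1 : 1 < q₀ := Nat.one_lt_pow (by omega) hp.one_lt
  haveI : Fintype (fixedF σ) := Fintype.ofFinite _
  have hfix : Fintype.card (fixedF σ) = q₀ := by
    have h1 := card_eq_card_fixedF_pow σ hord
    rw [Nat.card_eq_fintype_card (α := F), hF, mul_comm, pow_mul, Nat.card_eq_fintype_card] at h1
    exact (Nat.pow_left_injective (n := 2) (by omega) h1).symm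
  -- elements of the fixed field
  have h1 : ∀ a : F, σ a = a → a ^ q₀ = a := by
    intro a ha
    have h3 := FiniteField.pow_card (⟨a, ha⟩ : fixedF σ)
    rw [hfix] at h3
    exact congrArg Subtype.val h3
  -- and conversely
  have h2 : ∀ a : F, a ^ q₀ = a → σ a = a := by
    set A : Finset F := Finset.univ.filter (fun a : F => a ^ q₀ = a) with hA
    set B : Finset F := Finset.univ.filter (fun a : F => σ a = a) with hB
    have hBA : B ⊆ A := by
      intro a ha
      simp only [hA, hB, Finset.mem_filter, Finset.mem_univ, true_and] at ha ⊢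
      exact h1 a ha
    have hBcard : B.card = q₀ := by
      rw [← hfix, Fintype.card_subtype]
      rfl
    have hAcard : A.card ≤ q₀ := by
      have hP : ((Polynomial.X : Polynomial F) ^ q₀ - Polynomial.X) ≠ 0 := FiniteField.X_pow_card_sub_X_ne_zero F hq1
      have hdeg := FiniteField.X_pow_card_sub_X_natDegree_eq F hq1
      have hsub : A ⊆ ((Polynomial.X : Polynomial F) ^ q₀ - Polynomial.X).roots.toFinset := by
        intro a ha
        simp only [hA, Finset.mem_filter, Finset.mem_univ, true_and] at ha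
        rw [Multiset.mem_toFinset, Polynomial.mem_roots hP]
        simp [Polynomial.IsRoot, ha]
      calc A.card ≤ _ := Finset.card_le_card hsub
        _ ≤ ((Polynomial.X : Polynomial F) ^ q₀ - Polynomial.X).roots.card := Multiset.toFinset_card_le _
        _ ≤ _ := Polynomial.card_roots' _
        _ = q₀ := hdeg
    have hAB : B = A := Finset.eq_of_subset_of_card_le hBA (by omega)
    intro a ha
    have : a ∈ A := by
      simp only [hA, Finset.mem_filter, Finset.mem_univ, true_and]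
      exact ha
    rw [← hAB] at this
    simpa [hB] using this
  -- the quadratic
  set y := x ^ q₀ with hy
  set z := (σ x) ^ q₀ with hz
  have hsum : y + z = x + σ x := by
    have h3 : σ (x + σ x) = x + σ x := by
      rw [map_add, hσ2, add_comm]
    have h4 := h1 _ h3
    rw [hq₀, add_pow_char_pow] at h4
    exact h4
  have hprod : y * z = x * σ x := by
    have h3 : σ (x * σ x) = x * σ x := by
      rw [map_mul, hσ2, mul_comm]
    have h4 := h1 _ h3
    rw [mul_pow] at h4
    exact h4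
  have h5 : (y - x) * (y - σ x) = 0 := by
    have hz' : z = x + σ x - y := by rw [← hsum]; ring
    rw [hz'] at hprod
    linear_combination -hprod
  rcases mul_eq_zero.mp h5 with h6 | h6
  · have h7 : y = x := sub_eq_zero.mp h6
    rw [h2 x h7]
    exact h7.symm
  · exact (sub_eq_zero.mp h6).symm

/-- Membership in the general unitary group in matrix form. -/
lemma mem_GU_iff {q : ℕ} (σ : F ≃+* F) (hq : ∀ x, σ x = x ^ q) (g : GL (Fin n) F) :
    g ∈ Cfsg.GU n F q ↔ (g : Matrix (Fin n) (Fin n) F)ᵀ * (g : Matrix (Fin n) (Fin n) F).map σ = 1 := by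
  have hform : ∀ u v : Fin n → F, Cfsg.hermForm n F q u v = u ⬝ᵥ vmap σ v := by
    intro u v
    simp only [Cfsg.hermForm, dotProduct, vmap_apply, hq]
  have hform2 : ∀ u v : Fin n → F, Cfsg.hermForm n F q ((g : Matrix (Fin n) (Fin n) F) *ᵥ u) ((g : Matrix (Fin n) (Fin n) F) *ᵥ v) =
      u ⬝ᵥ (((g : Matrix (Fin n) (Fin n) F)ᵀ * (g : Matrix (Fin n) (Fin n) F).map σ) *ᵥ vmap σ v) := by
    intro u v
    rw [hform, map_mulVec', ← Matrix.mulVec_mulVec, Matrix.dotProduct_mulVec u, Matrix.vecMul_transpose]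
  change (∀ u v, Cfsg.hermForm n F q ((g : Matrix (Fin n) (Fin n) F) *ᵥ u) ((g : Matrix (Fin n) (Fin n) F) *ᵥ v) = Cfsg.hermForm n F q u v) ↔ _
  constructor
  · intro h
    ext i j
    have h1 := h (ee i) (vmap σ.symm (ee j))
    rw [hform2, hform, vmap_symm', single_one_dotProduct, single_one_dotProduct, Matrix.mulVec_single_one] at h1
    rw [Matrix.one_apply]
    have h2 : (((g : Matrix (Fin n) (Fin n) F)ᵀ * (g : Matrix (Fin n) (Fin n) F).map σ) i j) = (ee j : Fin n → F) i := h1
    rw [h2]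
    by_cases hij : i = j
    · subst hij
      simp
    · simp [ee_apply_ne hij, hij]
  · intro h u v
    rw [hform2, h, Matrix.one_mulVec, hform]

/-- The commuting condition with `fa σ * itAut`. -/
lemma commute_dl_fa_it_iff (hn : 2 ≤ n) (u : GL (Fin n) F) (σ : F ≃+* F) :
    Commute (dl u) (fa σ * itAut) ↔ ∃ c : Fˣ, u = glMap σ (invT u) * Matrix.GeneralLinearGroup.scalar (Fin n) c := by
  have h1 : dl u * (fa σ * itAut) = csAut u σ * itAut := by
    rw [← mul_assoc, dl_mul_fa]
  have h2 : (fa σ * itAut) * dl u = csAut (glMap σ (invT u)) σ * itAut := by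
    rw [mul_assoc, dl, itAut_mul_csAut, ← mul_assoc, fa_mul_dl]
  change dl u * (fa σ * itAut) = (fa σ * itAut) * dl u ↔ _
  rw [h1, h2, mul_left_inj, csAut_eq_csAut_iff hn]
  simp

lemma scalar_mul_comm (c : Fˣ) (x : GL (Fin n) F) :
    Matrix.GeneralLinearGroup.scalar (Fin n) c * x = x * Matrix.GeneralLinearGroup.scalar (Fin n) c := by
  have h : (Matrix.GeneralLinearGroup.scalar (Fin n) c : GL (Fin n) F) ∈ Subgroup.center (GL (Fin n) F) := by
    rw [Matrix.GeneralLinearGroup.center_eq_range_scalar]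
    exact ⟨c, rfl⟩
  exact (Subgroup.mem_center_iff.mp h x).symm

/-- Elements commuting with `fa σ * itAut` are unitary up to a scalar. -/
lemma exists_unitary_of_commute [Fintype F] (hn : 2 ≤ n) (σ : F ≃+* F) (hord : orderOf σ = 2) (u : GL (Fin n) F)
    (h : Commute (dl u) (fa σ * itAut)) :
    ∃ d : Fˣ, ((u * Matrix.GeneralLinearGroup.scalar (Fin n) d : GL (Fin n) F) : Matrix (Fin n) (Fin n) F)ᵀ *
      ((u * Matrix.GeneralLinearGroup.scalar (Fin n) d : GL (Fin n) F) : Matrix (Fin n) (Fin n) F).map σ = 1 := by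
  have hσ2 : ∀ x, σ (σ x) = x := by
    intro x
    have h1 : σ ^ 2 = 1 := by rw [← hord]; exact pow_orderOf_eq_one σ
    have h2 := DFunLike.congr_fun h1 x
    rwa [pow_two] at h2
  obtain ⟨c, hc⟩ := (commute_dl_fa_it_iff hn u σ).mp h
  have hmap2 : ∀ M : Matrix (Fin n) (Fin n) F, (M.map σ).map σ = M := by
    intro M
    ext i j
    simp [hσ2]
  set U := (u : Matrix (Fin n) (Fin n) F) with hU
  set V := ((u⁻¹ : GL (Fin n) F) : Matrix (Fin n) (Fin n) F) with hV
  have hUV : U * V = 1 := gl_mul_inv u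
  have h0 : U = (c : F) • (Vᵀ).map σ := by
    have h2 := congrArg (fun g : GL (Fin n) F => (g : Matrix (Fin n) (Fin n) F)) hc
    simp only [Units.val_mul, scalar_coe, glMap_coe, invT_coe, Matrix.mul_smul, Matrix.mul_one] at h2
    exact h2
  have h1 : U * (U.map σ)ᵀ = (c : F) • 1 := by
    calc U * (U.map σ)ᵀ = ((c : F) • (Vᵀ).map σ) * (U.map σ)ᵀ := by rw [← h0]
      _ = (c : F) • ((Vᵀ).map σ * (U.map σ)ᵀ) := Matrix.smul_mul _ _ _
      _ = (c : F) • 1 := by
        congr 1
        have hT1 : (Vᵀ).map σ = (V.map σ)ᵀ := rfl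
        rw [hT1, ← Matrix.transpose_mul, ← Matrix.map_mul, hUV]
        ext i j
        by_cases hij : i = j
        · subst hij
          simp
        · have hji : ¬ j = i := fun h => hij h.symm
          simp [hij, hji, Matrix.one_apply]
  have hc0 : (c : F) ≠ 0 := c.ne_zero
  have h2 : U.map σ * Uᵀ = (c : F) • 1 := by
    have h3 := congrArg Matrix.transpose h1
    rw [Matrix.transpose_mul, Matrix.transpose_transpose, Matrix.transpose_smul, Matrix.transpose_one] at h3
    exact h3
  have h4 : Uᵀ * U.map σ = (c : F) • 1 := by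
    have h5 : ((c : F)⁻¹ • U.map σ) * Uᵀ = 1 := by
      rw [Matrix.smul_mul, h2, smul_smul, inv_mul_cancel₀ hc0, one_smul]
    have h6 := mul_eq_one_comm.mp h5
    rw [Matrix.mul_smul] at h6
    rw [← one_smul F (Uᵀ * U.map σ), ← mul_inv_cancel₀ hc0, mul_smul, h6]
  have hcfix : σ (c : F) = c := by
    have h3 := congrArg (fun M : Matrix (Fin n) (Fin n) F => M.map σ) h2
    simp only [Matrix.map_mul, hmap2] at h3
    have hT2 : (Uᵀ).map σ = (U.map σ)ᵀ := rfl
    rw [hT2, h1] at h3
    have h5 := congrFun (congrFun h3 ⟨0, by omega⟩) ⟨0, by omega⟩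
    simpa using h5.symm
  have hcinv : σ ((c : F)⁻¹) = (c : F)⁻¹ := by
    rw [map_inv₀, hcfix]
  obtain ⟨d, hd, hdn⟩ := exists_norm_eq σ (by omega) hord (inv_ne_zero hc0) hcinv
  have hdn' : d * σ d = (c : F)⁻¹ := by
    rw [← hdn]
    simp [pnorm, Finset.prod_range_succ]
  refine ⟨Units.mk0 d hd, ?_⟩
  have h5 : ((u * Matrix.GeneralLinearGroup.scalar (Fin n) (Units.mk0 d hd) : GL (Fin n) F) : Matrix (Fin n) (Fin n) F) = d • U := by
    rw [Units.val_mul, scalar_coe, Matrix.mul_smul, Matrix.mul_one]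
    rfl
  rw [h5]
  have h6 : (d • U).map σ = σ d • U.map σ := by
    ext i j
    simp
  rw [h6, Matrix.transpose_smul, Matrix.smul_mul, Matrix.mul_smul, h4, smul_smul, smul_smul]
  rw [show d * σ d * (c : F) = 1 by rw [hdn', inv_mul_cancel₀ hc0], one_smul]

/-- Unitary matrices commute with `fa σ * itAut`. -/
lemma commute_of_unitary (hn : 2 ≤ n) (σ : F ≃+* F) (hσ2 : ∀ x, σ (σ x) = x) (u : GL (Fin n) F)
    (h : (u : Matrix (Fin n) (Fin n) F)ᵀ * (u : Matrix (Fin n) (Fin n) F).map σ = 1) :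
    Commute (dl u) (fa σ * itAut) := by
  rw [commute_dl_fa_it_iff hn]
  refine ⟨1, ?_⟩
  rw [map_one, mul_one]
  apply Units.ext
  rw [glMap_coe, invT_coe]
  -- `σ(u) = (u⁻¹)ᵀ`
  have h1 : (u : Matrix (Fin n) (Fin n) F).map σ = ((u⁻¹ : GL (Fin n) F) : Matrix (Fin n) (Fin n) F)ᵀ := by
    have h2 : ((u⁻¹ : GL (Fin n) F) : Matrix (Fin n) (Fin n) F)ᵀ * (u : Matrix (Fin n) (Fin n) F)ᵀ = 1 := by
      rw [← Matrix.transpose_mul, gl_mul_inv, Matrix.transpose_one]
    calc (u : Matrix (Fin n) (Fin n) F).map σ = (((u⁻¹ : GL (Fin n) F) : Matrix (Fin n) (Fin n) F)ᵀ * (u : Matrix (Fin n) (Fin n) F)ᵀ) * (u : Matrix (Fin n) (Fin n) F).map σ := by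
          rw [h2, Matrix.one_mul]
      _ = _ := by rw [Matrix.mul_assoc, h, Matrix.mul_one]
  rw [← h1]
  ext i j
  simp [hσ2]

/-- Determinant of a unitary matrix has norm one. -/
lemma det_unitary (σ : F ≃+* F) (u : GL (Fin n) F)
    (h : (u : Matrix (Fin n) (Fin n) F)ᵀ * (u : Matrix (Fin n) (Fin n) F).map σ = 1) :
    (u : Matrix (Fin n) (Fin n) F).det * σ (u : Matrix (Fin n) (Fin n) F).det = 1 := by
  have h1 := congrArg Matrix.det h
  rw [Matrix.det_mul, Matrix.det_transpose, Matrix.det_one] at h1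
  have h2 : ((u : Matrix (Fin n) (Fin n) F).map σ).det = σ (u : Matrix (Fin n) (Fin n) F).det :=
    (RingHom.map_det (σ : F →+* F) _).symm
  rw [h2] at h1
  exact h1

lemma dg_unitary (σ : F ≃+* F) (i₀ : Fin n) (t : Fˣ) (ht : (t : F) * σ t = 1) :
    (dg i₀ t : Matrix (Fin n) (Fin n) F)ᵀ * (dg i₀ t : Matrix (Fin n) (Fin n) F).map σ = 1 := by
  rw [dg_coe, Matrix.diagonal_transpose]
  ext i j
  by_cases hij : i = j
  · subst hij
    by_cases hi : i = i₀
    · simp [hi, Matrix.diagonal_apply_eq, Matrix.mul_apply, Matrix.map_apply, Matrix.diagonal_apply, ht]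
    · simp [hi, Matrix.mul_apply, Matrix.map_apply, Matrix.diagonal_apply]
  · simp [hij, Matrix.mul_apply, Matrix.map_apply, Matrix.diagonal_apply, Matrix.one_apply]

/-- The split count of `fa σ * itAut`. -/
theorem graphField_count [Fintype F] (hn : 2 ≤ n) (σ : F ≃+* F) (hord : orderOf σ = 2) :
    Cfsg.splitClassCount (Cfsg.inndiagPSL n F) (Cfsg.Inn (ProjectiveSpecialLinearGroup (Fin n) F)) (fa σ * itAut) =
      Nat.gcd (Nat.card (fixedF σ) - 1) n := by
  have hσ2 : ∀ x, σ (σ x) = x := by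
    intro x
    have h1 : σ ^ 2 = 1 := by rw [← hord]; exact pow_orderOf_eq_one σ
    have h2 := DFunLike.congr_fun h1 x
    rwa [pow_two] at h2
  set i₀ : Fin n := ⟨0, by omega⟩ with hi₀
  have hT : ∀ t : Fˣ, t ∈ (nmHom σ 2).ker ↔ (t : F) * σ t = 1 := by
    intro t
    rw [MonoidHom.mem_ker, Units.ext_iff, nmHom_val, Units.val_one]
    simp [pnorm, Finset.prod_range_succ]
  have hσr : σ ^ 2 = 1 := by rw [← hord]; exact pow_orderOf_eq_one σ
  have hker : (nmHom σ 2).ker = (coB σ).range := by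
    ext x
    rw [MonoidHom.mem_ker, MonoidHom.mem_range]
    constructor
    · intro h
      have h1 : pnorm σ (x : F) 2 = 1 := by
        rw [← nmHom_val, h, Units.val_one]
      obtain ⟨d, hd, hxd⟩ := exists_of_pnorm_eq_one σ (by omega) hord h1
      refine ⟨Units.mk0 d hd, ?_⟩
      apply Units.ext
      rw [coB_val]
      have h3 : σ d ≠ 0 := by simpa using hd
      change d / σ d = x
      field_simp
      linear_combination -hxd
    · rintro ⟨d, rfl⟩
      apply Units.ext
      rw [nmHom_val, Units.val_one]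
      have hd : (d : F) ≠ 0 := d.ne_zero
      have hsd : σ (d : F) ≠ 0 := by simpa using hd
      exact pnorm_eq_one_of_fixed σ hσr (y := (d : F)⁻¹) (inv_ne_zero hd) (by
        rw [coB_val, map_inv₀]
        field_simp)
  rw [count_of_T hn (fa σ * itAut) (nmHom σ 2).ker]
  · congr 1
    have h1 := card_range_coB σ
    rw [hker]
    have h2 : Nat.card Fˣ = Nat.card F - 1 := by
      rw [Nat.card_units]
    rw [h2, ← h1, Nat.mul_div_cancel_left _ Nat.card_pos]
  · intro t ht
    refine ⟨dg i₀ t, ?_, dg_det i₀ t⟩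
    exact commute_of_unitary hn σ hσ2 _ (dg_unitary σ i₀ t ((hT t).mp ht))
  · intro u hu
    obtain ⟨d, hd⟩ := exists_unitary_of_commute hn σ hord u hu
    refine ⟨d⁻¹, Matrix.GeneralLinearGroup.det (u * Matrix.GeneralLinearGroup.scalar (Fin n) d), ?_, ?_⟩
    · rw [hT]
      exact det_unitary σ _ hd
    · rw [map_mul, Matrix.GeneralLinearGroup.det_scalar, Fintype.card_fin, inv_pow]
      rw [mul_comm, mul_assoc, mul_inv_cancel, mul_one]

/-- The centraliser of `fa σ * itAut` is the projective unitary group. -/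
theorem graphField_cent_equiv [Fintype F] {q : ℕ} (hn : 2 ≤ n) (σ : F ≃+* F) (hord : orderOf σ = 2) (hq : ∀ x, σ x = x ^ q) :
    Nonempty (↥(Cfsg.inndiagPSL n F ⊓ Subgroup.centralizer {(fa σ * itAut : MulAut (ProjectiveSpecialLinearGroup (Fin n) F))}) ≃*
      Cfsg.PGU n F q) := by
  have hσ2 : ∀ x, σ (σ x) = x := by
    intro x
    have h1 : σ ^ 2 = 1 := by rw [← hord]; exact pow_orderOf_eq_one σ
    have h2 := DFunLike.congr_fun h1 x
    rwa [pow_two] at h2
  have hmem : ∀ g : ↥(Cfsg.GU n F q), dlHom (g : GL (Fin n) F) ∈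
      Cfsg.inndiagPSL n F ⊓ Subgroup.centralizer {(fa σ * itAut : MulAut (ProjectiveSpecialLinearGroup (Fin n) F))} := by
    intro g
    refine ⟨dl_mem_inndiag _, ?_⟩
    change dl _ ∈ Subgroup.centralizer {(fa σ * itAut : MulAut (ProjectiveSpecialLinearGroup (Fin n) F))}
    rw [Subgroup.mem_centralizer_singleton_iff]
    exact commute_of_unitary hn σ hσ2 _ ((mem_GU_iff σ hq _).mp g.2)
  let P : ↥(Cfsg.GU n F q) →* ↥(Cfsg.inndiagPSL n F ⊓ Subgroup.centralizer {(fa σ * itAut : MulAut (ProjectiveSpecialLinearGroup (Fin n) F))}) :=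
    (dlHom.comp (Cfsg.GU n F q).subtype).codRestrict _ hmem
  have hP : ∀ g, ((P g : ↥(Cfsg.inndiagPSL n F ⊓ Subgroup.centralizer {(fa σ * itAut : MulAut (ProjectiveSpecialLinearGroup (Fin n) F))})) : MulAut (ProjectiveSpecialLinearGroup (Fin n) F)) = dl (g : GL (Fin n) F) := fun _ => rfl
  have hsurj : Function.Surjective P := by
    rintro ⟨β, hβ1, hβ2⟩
    obtain ⟨u, rfl⟩ := (mem_inndiag_iff β).mp hβ1
    have hβ2' : dl u ∈ Subgroup.centralizer {(fa σ * itAut : MulAut (ProjectiveSpecialLinearGroup (Fin n) F))} := hβ2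
    rw [Subgroup.mem_centralizer_singleton_iff] at hβ2'
    obtain ⟨d, hd⟩ := exists_unitary_of_commute hn σ hord u hβ2'
    refine ⟨⟨u * Matrix.GeneralLinearGroup.scalar (Fin n) d, (mem_GU_iff σ hq _).mpr hd⟩, ?_⟩
    apply Subtype.ext
    rw [hP]
    exact csAut_scalar_mul _ _ _
  have hker : (Cfsg.Geo.scalars (Fin n) F).subgroupOf (Cfsg.GU n F q) = P.ker := by
    ext g
    rw [Subgroup.mem_subgroupOf, MonoidHom.mem_ker, Cfsg.Geo.mem_scalars_iff]
    constructor
    · rintro ⟨c, hc⟩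
      apply Subtype.ext
      rw [hP]
      have h1 : (g : GL (Fin n) F) = 1 * Matrix.GeneralLinearGroup.scalar (Fin n) c := by
        apply Units.ext
        rw [one_mul, scalar_coe]
        exact hc
      rw [h1]
      exact (csAut_scalar_mul _ _ _).trans csAut_one
    · intro hg
      have h0 : dl (g : GL (Fin n) F) = 1 := by
        rw [← hP, hg]
        rfl
      obtain ⟨-, c, hc⟩ := eq_of_csAut_eq_one hn h0
      refine ⟨c, ?_⟩
      rw [hc, scalar_coe]
  exact ⟨((QuotientGroup.quotientMulEquivOfEq hker).trans (QuotientGroup.quotientKerEquivOfSurjective P hsurj)).symm⟩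

end Cfsg.Agent.Lib.AutPSL
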