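import Cfsg.Agent.Lib.AutPSL.GraphFieldCent

/-!
# Graph automorphisms `dl g * itAut` of `PSL_n(F)`: algebra, involutions, conjugacy, centralisers.
-/

set_option autoImplicit false

namespace Cfsg.Agent.Lib.AutPSL

open Matrix
open scoped MatrixGroups

variable {F : Type*} [Field F] {n : ℕ}

/-- The automorphism `dl g * itAut`. -/
noncomputable abbrev gr (g : GL (Fin n) F) : MulAut (ProjectiveSpecialLinearGroup (Fin n) F) := dl g * itAut

lemma itAut_mul_dl (g : GL (Fin n) F) :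
    (itAut : MulAut (ProjectiveSpecialLinearGroup (Fin n) F)) * dl g = dl (invT g) * itAut :=
  itAut_mul_csAut g _

lemma gr_one : gr (1 : GL (Fin n) F) = itAut := by
  rw [gr, dl_one, one_mul]

lemma gr_mul_gr (g h : GL (Fin n) F) : gr g * gr h = dl (g * invT h) := by
  calc gr g * gr h = dl g * (itAut * dl h) * itAut := by
        simp only [gr, mul_assoc]
    _ = dl g * dl (invT h) * (itAut * itAut) := by
        rw [itAut_mul_dl]
        simp only [mul_assoc]
    _ = dl (g * invT h) := by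
        rw [itAut_mul_self, mul_one, dl_mul]

lemma gr_conj (u g : GL (Fin n) F) : dl u * gr g * (dl u)⁻¹ = gr (u * g * (invT u)⁻¹) := by
  have h1 := conj_dl_it u g (RingEquiv.refl F)
  rw [glMap_refl, invT_inv] at h1
  exact h1

lemma gr_eq_gr_iff (hn : 2 ≤ n) (g h : GL (Fin n) F) :
    gr g = gr h ↔ ∃ c : Fˣ, (g : Matrix (Fin n) (Fin n) F) = (c : F) • (h : Matrix (Fin n) (Fin n) F) := by
  rw [gr, gr, mul_left_inj, dl, dl, csAut_eq_csAut_iff hn]
  constructor
  · rintro ⟨-, c, hc⟩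
    refine ⟨c, ?_⟩
    rw [hc, Units.val_mul, scalar_coe, Matrix.mul_smul, Matrix.mul_one]
  · rintro ⟨c, hc⟩
    refine ⟨rfl, c, ?_⟩
    apply Units.ext
    rw [hc, Units.val_mul, scalar_coe, Matrix.mul_smul, Matrix.mul_one]

/-- Commuting with `gr g`, in matrix form. -/
lemma commute_dl_gr_iff (hn : 2 ≤ n) (u g : GL (Fin n) F) :
    Commute (dl u) (gr g) ↔ ∃ c : Fˣ, (u : Matrix (Fin n) (Fin n) F) * g * (u : Matrix (Fin n) (Fin n) F)ᵀ =
      (c : F) • (g : Matrix (Fin n) (Fin n) F) := by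
  have h1 : Commute (dl u) (gr g) ↔ dl u * gr g * (dl u)⁻¹ = gr g := by
    constructor
    · intro h
      rw [h.eq, mul_inv_cancel_right]
    · intro h
      have h2 : dl u * gr g = gr g * dl u := by
        calc dl u * gr g = dl u * gr g * (dl u)⁻¹ * dl u := by group
          _ = gr g * dl u := by rw [h]
      exact h2
  rw [h1, gr_conj, gr_eq_gr_iff hn, Units.val_mul, Units.val_mul, invT_inv_coe]

/-- Conjugacy of two `gr`s under `Inndiag`. -/
lemma isConj_gr_iff (hn : 2 ≤ n) (g h : GL (Fin n) F) :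
    Cfsg.IsConjUnder (Cfsg.inndiagPSL n F) (gr g) (gr h) ↔
      ∃ (u : GL (Fin n) F) (c : Fˣ), (u : Matrix (Fin n) (Fin n) F) * g * (u : Matrix (Fin n) (Fin n) F)ᵀ =
        (c : F) • (h : Matrix (Fin n) (Fin n) F) := by
  constructor
  · rintro ⟨a, ha, hh⟩
    obtain ⟨u, rfl⟩ := (mem_inndiag_iff a).mp ha
    rw [gr_conj, eq_comm, gr_eq_gr_iff hn, Units.val_mul, Units.val_mul, invT_inv_coe] at hh
    exact ⟨u, hh⟩
  · rintro ⟨u, c, hu⟩
    refine ⟨dl u, dl_mem_inndiag u, ?_⟩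
    rw [gr_conj, eq_comm, gr_eq_gr_iff hn, Units.val_mul, Units.val_mul, invT_inv_coe]
    exact ⟨c, hu⟩

lemma gr_ne_one (hn : 3 ≤ n) (g : GL (Fin n) F) : gr g ≠ 1 := by
  intro h
  have h1 : (itAut : MulAut (ProjectiveSpecialLinearGroup (Fin n) F)) = (dl g)⁻¹ :=
    (inv_eq_of_mul_eq_one_right h).symm
  rw [dl_inv] at h1
  exact itAut_ne_csAut hn _ _ h1

/-- Involutions among the `gr g`. -/
lemma orderOf_gr_iff (hn : 3 ≤ n) (g : GL (Fin n) F) :
    orderOf (gr g) = 2 ↔ ∃ c : Fˣ, (g : Matrix (Fin n) (Fin n) F) = (c : F) • (g : Matrix (Fin n) (Fin n) F)ᵀ := by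
  have hn2 : 2 ≤ n := by omega
  constructor
  · intro h
    have h1 : gr g * gr g = 1 := by
      rw [← pow_two, ← h]
      exact pow_orderOf_eq_one _
    rw [gr_mul_gr] at h1
    obtain ⟨-, c, hc⟩ := eq_of_csAut_eq_one hn2 h1
    refine ⟨c, ?_⟩
    have h2 := congrArg (fun x : GL (Fin n) F => (x : Matrix (Fin n) (Fin n) F) * (g : Matrix (Fin n) (Fin n) F)ᵀ) hc
    simp only [Units.val_mul, scalar_coe, invT_coe] at h2
    rw [Matrix.mul_assoc, ← Matrix.transpose_mul, gl_mul_inv, Matrix.transpose_one, Matrix.mul_one,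
      Matrix.smul_mul, Matrix.one_mul] at h2
    exact h2
  · rintro ⟨c, hc⟩
    apply orderOf_eq_prime _ (gr_ne_one hn g)
    rw [pow_two, gr_mul_gr]
    have h1 : g * invT g = Matrix.GeneralLinearGroup.scalar (Fin n) c := by
      apply Units.ext
      rw [Units.val_mul, scalar_coe, invT_coe]
      conv_lhs => rw [hc]
      rw [Matrix.smul_mul, ← Matrix.transpose_mul, gl_inv_mul, Matrix.transpose_one]
    rw [h1]
    have h2 := csAut_scalar_mul (1 : GL (Fin n) F) (RingEquiv.refl F) c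
    rw [one_mul] at h2
    rw [dl, h2]
    exact csAut_one

/-- The sign of a `c`-symmetric matrix. -/
lemma sign_of_sym (hn : 1 ≤ n) (g : GL (Fin n) F) (c : Fˣ)
    (hc : (g : Matrix (Fin n) (Fin n) F) = (c : F) • (g : Matrix (Fin n) (Fin n) F)ᵀ) :
    (c : F) = 1 ∨ (c : F) = -1 := by
  have h1 : (g : Matrix (Fin n) (Fin n) F) = ((c : F) * c) • (g : Matrix (Fin n) (Fin n) F) := by
    conv_lhs => rw [hc]
    conv_lhs => rw [hc]
    rw [Matrix.transpose_smul, Matrix.transpose_transpose, smul_smul]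
  have h2 : (c : F) * c = 1 := by
    haveI : Nonempty (Fin n) := ⟨⟨0, by omega⟩⟩
    have hg : (g : Matrix (Fin n) (Fin n) F).det ≠ 0 := by
      have := (Matrix.isUnit_iff_isUnit_det _).mp g.isUnit
      exact this.ne_zero
    have hne : (g : Matrix (Fin n) (Fin n) F) ≠ 0 := by
      intro h0
      rw [h0, Matrix.det_zero] at hg
      exact hg rfl
    by_contra hne1
    apply hne
    have h3 : ((c : F) * c - 1) • (g : Matrix (Fin n) (Fin n) F) = 0 := by
      rw [sub_smul, ← h1, one_smul, sub_self]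
    rcases smul_eq_zero.mp h3 with h4 | h4
    · exact absurd (sub_eq_zero.mp h4) hne1
    · exact h4
  have h3 : ((c : F) - 1) * ((c : F) + 1) = 0 := by
    linear_combination h2
  rcases mul_eq_zero.mp h3 with h4 | h4
  · left
    exact sub_eq_zero.mp h4
  · right
    exact eq_neg_of_add_eq_zero_left h4

/-- Graph class members are `gr g`. -/
lemma exists_of_graphClass {y : MulAut (ProjectiveSpecialLinearGroup (Fin n) F)} (hy : Cfsg.IsGraphAutClassPSL y) :
    ∃ g : GL (Fin n) F, y = gr g := by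
  obtain ⟨-, δ, γ, hδ, hγ, rfl⟩ := hy
  obtain ⟨g, rfl⟩ := (isInnerDiag_iff δ).mp hδ
  rw [(isIT_iff γ).mp hγ]
  exact ⟨g, rfl⟩

lemma isGraphClass_gr (hn : 3 ≤ n) (g : GL (Fin n) F) : Cfsg.IsGraphAutClassPSL (gr g) :=
  ⟨hn, dl g, itAut, isInnerDiag_csAut g, isIT_itAut, rfl⟩

/-- The centraliser of `gr g` is unchanged under conjugation. -/
lemma cent_gr_conj {g h : GL (Fin n) F} (hgh : Cfsg.IsConjUnder (Cfsg.inndiagPSL n F) (gr g) (gr h)) :
    Nonempty (↥(Cfsg.inndiagPSL n F ⊓ Subgroup.centralizer {gr h}) ≃* ↥(Cfsg.inndiagPSL n F ⊓ Subgroup.centralizer {gr g})) := by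
  obtain ⟨a, ha, hh⟩ := hgh
  rw [hh]
  exact centr_conj_equiv _ ha _

/-! ### Index change -/

section reindex

variable {ι : Type} [Fintype ι] [DecidableEq ι]

/-- Reindexing `GL`. -/
noncomputable def rG (e : ι ≃ Fin n) : GL ι F ≃* GL (Fin n) F :=
  Units.mapEquiv (Matrix.reindexAlgEquiv F F e).toMulEquiv

lemma rG_coe (e : ι ≃ Fin n) (g : GL ι F) :
    ((rG e g : GL (Fin n) F) : Matrix (Fin n) (Fin n) F) = (g : Matrix ι ι F).submatrix e.symm e.symm := rfl

lemma rG_symm_coe (e : ι ≃ Fin n) (g : GL (Fin n) F) :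
    (((rG e).symm g : GL ι F) : Matrix ι ι F) = (g : Matrix (Fin n) (Fin n) F).submatrix e e := by
  have h : g = rG e ((rG e).symm g) := by simp
  conv_rhs => rw [h, rG_coe]
  ext i j
  simp

end reindex

section simform

variable {ι : Type} [Fintype ι] [DecidableEq ι]

lemma gl_mi (g : GL ι F) : (g : Matrix ι ι F) * ((g⁻¹ : GL ι F) : Matrix ι ι F) = 1 := by
  rw [← Units.val_mul, mul_inv_cancel, Units.val_one]

lemma gl_im (g : GL ι F) : ((g⁻¹ : GL ι F) : Matrix ι ι F) * (g : Matrix ι ι F) = 1 := by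
  rw [← Units.val_mul, inv_mul_cancel, Units.val_one]

/-- Passing between the similarity conditions for a matrix and its inverse. -/
lemma sim_inv_iff (u A : GL ι F) (c : F) :
    (u : Matrix ι ι F) * ((A⁻¹ : GL ι F) : Matrix ι ι F) * (u : Matrix ι ι F)ᵀ = c • ((A⁻¹ : GL ι F) : Matrix ι ι F) ↔
      (u : Matrix ι ι F)ᵀ * (A : Matrix ι ι F) * (u : Matrix ι ι F) = c • (A : Matrix ι ι F) := by
  set U := (u : Matrix ι ι F) with hU
  set V := ((u⁻¹ : GL ι F) : Matrix ι ι F) with hV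
  set B := (((A⁻¹ : GL ι F)) : Matrix ι ι F) with hB
  set A' := (A : Matrix ι ι F) with hA'
  have hAB : A' * B = 1 := gl_mi A
  have hBA : B * A' = 1 := gl_im A
  have hUV : U * V = 1 := gl_mi u
  have hVU : V * U = 1 := gl_im u
  constructor
  · intro hc
    have h1 : B * Uᵀ = c • (V * B) := by
      calc B * Uᵀ = V * (U * B * Uᵀ) := by
            rw [← Matrix.mul_assoc, ← Matrix.mul_assoc, hVU, Matrix.one_mul]
        _ = _ := by rw [hc, Matrix.mul_smul]
    have h2 : Uᵀ * A' = c • (A' * V) := by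
      calc Uᵀ * A' = A' * (B * Uᵀ) * A' := by
            rw [← Matrix.mul_assoc, hAB, Matrix.one_mul]
        _ = _ := by
            rw [h1, Matrix.mul_smul, Matrix.smul_mul, Matrix.mul_assoc, Matrix.mul_assoc, hBA, Matrix.mul_one]
    rw [h2, Matrix.smul_mul, Matrix.mul_assoc, hVU, Matrix.mul_one]
  · intro hc
    have h2 : Uᵀ * A' = c • (A' * V) := by
      calc Uᵀ * A' = (Uᵀ * A' * U) * V := by
            rw [Matrix.mul_assoc, hUV, Matrix.mul_one]
        _ = _ := by rw [hc, Matrix.smul_mul]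
    have h1 : B * Uᵀ = c • (V * B) := by
      calc B * Uᵀ = B * (Uᵀ * A') * B := by
            rw [Matrix.mul_assoc, Matrix.mul_assoc, hAB, Matrix.mul_one]
        _ = _ := by
            rw [h2, Matrix.mul_smul, Matrix.smul_mul, ← Matrix.mul_assoc, hBA, Matrix.one_mul]
    rw [Matrix.mul_assoc, h1, Matrix.mul_smul, ← Matrix.mul_assoc, hUV, Matrix.one_mul]

lemma scalars_mem_iff (g : GL ι F) : g ∈ Cfsg.Geo.scalars ι F ↔ ∃ c : Fˣ, (g : Matrix ι ι F) = (c : F) • (1 : Matrix ι ι F) :=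
  Cfsg.Geo.mem_scalars_iff g

end simform

/-- The commuting condition transported to the index `ι`. -/
lemma commute_rG_iff {ι : Type} [Fintype ι] [DecidableEq ι] (hn : 2 ≤ n) (e : ι ≃ Fin n) (u A : GL ι F) :
    Commute (dl (rG e u)) (gr (rG e A⁻¹)) ↔
      ∃ c : Fˣ, (u : Matrix ι ι F)ᵀ * (A : Matrix ι ι F) * (u : Matrix ι ι F) = (c : F) • (A : Matrix ι ι F) := by
  rw [commute_dl_gr_iff hn]
  simp only [rG_coe]
  refine exists_congr fun c => ?_
  rw [← sim_inv_iff]
  rw [Matrix.transpose_submatrix, Matrix.submatrix_mul_equiv, Matrix.submatrix_mul_equiv]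
  have : (c : F) • ((A⁻¹ : GL ι F) : Matrix ι ι F).submatrix e.symm e.symm =
      ((c : F) • ((A⁻¹ : GL ι F) : Matrix ι ι F)).submatrix e.symm e.symm := rfl
  rw [this]
  constructor
  · intro h
    ext i j
    have h3 := congrFun (congrFun h (e i)) (e j)
    simpa using h3
  · intro h
    rw [h]

/-- The centraliser of `gr (A⁻¹)` in `Inndiag` is the group of similarities of the form with matrix `A` modulo scalars. -/
theorem graph_cent_equiv {ι : Type} [Fintype ι] [DecidableEq ι] (hn : 2 ≤ n) (e : ι ≃ Fin n) (A : GL ι F)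
    (H : Subgroup (GL ι F))
    (hH : ∀ u : GL ι F, u ∈ H ↔ ∃ c : Fˣ, (u : Matrix ι ι F)ᵀ * (A : Matrix ι ι F) * (u : Matrix ι ι F) = (c : F) • (A : Matrix ι ι F)) :
    Nonempty (↥(Cfsg.inndiagPSL n F ⊓ Subgroup.centralizer {gr (rG e A⁻¹)}) ≃* Cfsg.projQuot H) := by
  have hc : ∀ u : GL ι F, Commute (dl (rG e u)) (gr (rG e A⁻¹)) ↔ u ∈ H := by
    intro u
    rw [commute_rG_iff hn, hH]
  have hmem : ∀ g : ↥H, dlHom (rG e (g : GL ι F)) ∈ Cfsg.inndiagPSL n F ⊓ Subgroup.centralizer {gr (rG e A⁻¹)} := by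
    intro g
    refine ⟨dl_mem_inndiag _, ?_⟩
    change dl _ ∈ Subgroup.centralizer {gr (rG e A⁻¹)}
    rw [Subgroup.mem_centralizer_singleton_iff]
    exact (hc _).mpr g.2
  let P : ↥H →* ↥(Cfsg.inndiagPSL n F ⊓ Subgroup.centralizer {gr (rG e A⁻¹)}) :=
    ((dlHom.comp (rG e).toMonoidHom).comp H.subtype).codRestrict _ hmem
  have hP : ∀ g, ((P g : ↥(Cfsg.inndiagPSL n F ⊓ Subgroup.centralizer {gr (rG e A⁻¹)})) : MulAut (ProjectiveSpecialLinearGroup (Fin n) F)) = dl (rG e (g : GL ι F)) := fun _ => rfl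
  have hsurj : Function.Surjective P := by
    rintro ⟨β, hβ1, hβ2⟩
    obtain ⟨v, rfl⟩ := (mem_inndiag_iff β).mp hβ1
    have hβ2' : dl v ∈ Subgroup.centralizer {gr (rG e A⁻¹)} := hβ2
    rw [Subgroup.mem_centralizer_singleton_iff] at hβ2'
    have hv : rG e ((rG e).symm v) = v := by simp
    rw [← hv] at hβ2'
    refine ⟨⟨(rG e).symm v, (hc _).mp hβ2'⟩, ?_⟩
    apply Subtype.ext
    rw [hP]
    simp
  have hker : (Cfsg.Geo.scalars ι F).subgroupOf H = P.ker := by
    ext g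
    rw [Subgroup.mem_subgroupOf, MonoidHom.mem_ker, Cfsg.Geo.mem_scalars_iff]
    constructor
    · rintro ⟨c, hc⟩
      apply Subtype.ext
      rw [hP]
      have h1 : rG e (g : GL ι F) = 1 * Matrix.GeneralLinearGroup.scalar (Fin n) c := by
        apply Units.ext
        rw [one_mul, scalar_coe, rG_coe, hc]
        ext i j
        simp [Matrix.one_apply]
      rw [h1]
      exact (csAut_scalar_mul _ _ _).trans csAut_one
    · intro hg
      have h0 : dl (rG e (g : GL ι F)) = 1 := by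
        rw [← hP, hg]
        rfl
      obtain ⟨-, c, hc⟩ := eq_of_csAut_eq_one hn h0
      refine ⟨c, ?_⟩
      have h2 := congrArg (fun x : GL (Fin n) F => (x : Matrix (Fin n) (Fin n) F)) hc
      simp only [rG_coe, scalar_coe] at h2
      ext i j
      have h3 := congrFun (congrFun h2 (e i)) (e j)
      simpa [Matrix.one_apply] using h3
  exact ⟨((QuotientGroup.quotientMulEquivOfEq hker).trans (QuotientGroup.quotientKerEquivOfSurjective P hsurj)).symm⟩

end Cfsg.Agent.Lib.AutPSL
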