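import Cfsg.Agent.Lib.AutPSL.Structure

/-!
# Counting classes: how a class of `Inndiag(PSL_n)` splits under `Inn(PSL_n)`.
-/

set_option autoImplicit false

namespace Cfsg.Agent.Lib.AutPSL

open Matrix
open scoped MatrixGroups

section Generic

variable {G X A : Type*} [Group G] [Group X] [Group A]

/-- The number of `K`-classes in an `H`-class computed from a homomorphism. -/
theorem split_count (P : G →* X) (K : Subgroup X) (x : X) (hK : K ≤ P.range)
    (hnorm : ∀ k ∈ K, ∀ g, P g * k * (P g)⁻¹ ∈ K) (D : G →* A) (hD : Function.Surjective D)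
    (hker : ∀ g, D g = 1 ↔ ∃ k u, P k ∈ K ∧ Commute (P u) x ∧ g = k * u) :
    Cfsg.splitClassCount P.range K x = Nat.card A := by
  have hwd : ∀ g g', P g * x * (P g)⁻¹ = P g' * x * (P g')⁻¹ → D g = D g' := by
    intro g g' h
    have hc : Commute (P (g⁻¹ * g')) x := by
      rw [map_mul, map_inv]
      change _ * x = x * _
      have h1 : x = (P g)⁻¹ * (P g' * x * (P g')⁻¹) * P g := by
        rw [← h]; group
      have h2 : (P g)⁻¹ * P g' * x = x * ((P g)⁻¹ * P g') := by
        conv_rhs => rw [h1]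
        group
      exact h2
    have hu : D (g⁻¹ * g') = 1 := (hker _).mpr ⟨1, g⁻¹ * g', by rw [map_one]; exact K.one_mem, hc, by simp⟩
    rw [map_mul, map_inv, inv_mul_eq_one] at hu
    exact hu
  have hrep : ∀ y : {y : X // Cfsg.IsConjUnder P.range x y}, ∃ g, y.1 = P g * x * (P g)⁻¹ := by
    rintro ⟨y, h, ⟨g, rfl⟩, hy⟩
    exact ⟨g, hy⟩
  choose rep hrep using hrep
  let f : {y : X // Cfsg.IsConjUnder P.range x y} → A := fun y => D (rep y)
  have hf : ∀ (y : {y : X // Cfsg.IsConjUnder P.range x y}) g, y.1 = P g * x * (P g)⁻¹ → f y = D g := by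
    intro y g h
    apply hwd
    rw [← hrep, h]
  have hlift : ∀ y z : {y : X // Cfsg.IsConjUnder P.range x y}, Cfsg.IsConjUnder K y.1 z.1 → f y = f z := by
    rintro y z ⟨κ, hκ, hz⟩
    obtain ⟨k, rfl⟩ := hK hκ
    have h1 : z.1 = P (k * rep y) * x * (P (k * rep y))⁻¹ := by
      rw [hz, hrep y, map_mul]
      group
    rw [hf z _ h1, map_mul]
    have h2 : D k = 1 := (hker k).mpr ⟨k, 1, hκ, by rw [map_one]; exact Commute.one_left x, by simp⟩
    rw [h2, one_mul]
  unfold Cfsg.splitClassCount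
  apply Nat.card_eq_of_bijective (Quot.lift f hlift)
  constructor
  · intro a b
    induction a using Quot.ind with
    | mk y =>
      induction b using Quot.ind with
      | mk z =>
        intro h
        have h1 : D (rep y) = D (rep z) := h
        have h2 : D ((rep y)⁻¹ * rep z) = 1 := by
          rw [map_mul, map_inv, h1, inv_mul_cancel]
        obtain ⟨k, u, hk, hu, he⟩ := (hker _).mp h2
        apply Quot.sound
        refine ⟨P (rep y) * P k * (P (rep y))⁻¹, hnorm _ hk _, ?_⟩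
        have h3 : rep z = rep y * (k * u) := by
          rw [← he]; group
        rw [hrep z, hrep y, h3, map_mul, map_mul]
        have h4 : P u * x * (P u)⁻¹ = x := by
          rw [hu.eq]; group
        calc P (rep y) * (P k * P u) * x * (P (rep y) * (P k * P u))⁻¹
            = P (rep y) * P k * (P u * x * (P u)⁻¹) * (P k)⁻¹ * (P (rep y))⁻¹ := by group
          _ = P (rep y) * P k * x * (P k)⁻¹ * (P (rep y))⁻¹ := by rw [h4]
          _ = _ := by group
  · intro a
    obtain ⟨g, rfl⟩ := hD a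
    refine ⟨Quot.mk _ ⟨P g * x * (P g)⁻¹, P g, ⟨g, rfl⟩, rfl⟩, ?_⟩
    exact hf _ g rfl

end Generic

/-- The index of `G^n T` in a cyclic group `G`. -/
theorem card_quot_pow_sup {G : Type*} [CommGroup G] [IsCyclic G] [Finite G] (n : ℕ) (T : Subgroup G) :
    Nat.card (G ⧸ ((powMonoidHom n : G →* G).range ⊔ T)) = Nat.gcd (Nat.card G / Nat.card T) n := by
  set π : G →* G ⧸ T := QuotientGroup.mk' T with hπ
  have hsurj : Function.Surjective π := QuotientGroup.mk'_surjective T
  have h1 : ((powMonoidHom n : G →* G).range).map π = (powMonoidHom n : (G ⧸ T) →* (G ⧸ T)).range := by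
    ext y
    constructor
    · rintro ⟨_, ⟨a, rfl⟩, rfl⟩
      exact ⟨π a, by simp⟩
    · rintro ⟨b, rfl⟩
      obtain ⟨a, rfl⟩ := hsurj b
      exact ⟨a ^ n, ⟨a, rfl⟩, by simp⟩
  have h2 := Subgroup.index_map (H := (powMonoidHom n : G →* G).range) π
  rw [h1, π.range_eq_top_of_surjective hsurj, Subgroup.index_top, mul_one, QuotientGroup.ker_mk'] at h2
  have h3 : Nat.card (G ⧸ ((powMonoidHom n : G →* G).range ⊔ T)) = ((powMonoidHom n : G →* G).range ⊔ T).index := rfl
  rw [h3, ← h2, IsCyclic.index_powMonoidHom_range]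
  congr 1
  have h4 := Subgroup.card_mul_index T
  have h5 : 0 < Nat.card T := Nat.card_pos
  rw [← h4, Nat.mul_div_cancel_left _ h5]
  rfl

section PSL

variable {F : Type*} [Field F] {n : ℕ}

/-- `dl` as a homomorphism. -/
noncomputable def dlHom : GL (Fin n) F →* MulAut (ProjectiveSpecialLinearGroup (Fin n) F) where
  toFun := dl
  map_one' := dl_one
  map_mul' := fun g h => (dl_mul g h).symm

lemma dlHom_apply (g : GL (Fin n) F) : dlHom g = dl g := rfl

lemma inndiag_eq_range : Cfsg.inndiagPSL n F = (dlHom : GL (Fin n) F →* _).range := by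
  ext β
  rw [mem_inndiag_iff]
  constructor
  · rintro ⟨g, rfl⟩
    exact ⟨g, rfl⟩
  · rintro ⟨g, rfl⟩
    exact ⟨g, rfl⟩

/-- Inner automorphisms are those `dl k` with `det k` an `n`-th power. -/
lemma dl_mem_inn_iff (hn : 2 ≤ n) (k : GL (Fin n) F) :
    dl k ∈ Cfsg.Inn (ProjectiveSpecialLinearGroup (Fin n) F) ↔
      ∃ a : Fˣ, Matrix.GeneralLinearGroup.det k = a ^ n := by
  constructor
  · rintro ⟨x, hx⟩
    obtain ⟨s, rfl⟩ := QuotientGroup.mk_surjective x
    change MulAut.conj (QuotientGroup.mk s : ProjectiveSpecialLinearGroup (Fin n) F) = dl k at hx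
    rw [csAut_conj] at hx
    obtain ⟨-, c, hc⟩ := (csAut_eq_csAut_iff hn).mp hx
    refine ⟨c⁻¹, ?_⟩
    have h1 : k = Matrix.SpecialLinearGroup.toGL s * Matrix.GeneralLinearGroup.scalar (Fin n) c⁻¹ := by
      rw [hc, mul_assoc, ← map_mul, mul_inv_cancel, map_one, mul_one]
    rw [h1, map_mul, Matrix.GeneralLinearGroup.det_scalar, Fintype.card_fin]
    have : Matrix.GeneralLinearGroup.det (Matrix.SpecialLinearGroup.toGL s) = 1 := Matrix.SpecialLinearGroup.coeToGL_det s
    rw [this, one_mul]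
  · rintro ⟨a, ha⟩
    set g : GL (Fin n) F := k * Matrix.GeneralLinearGroup.scalar (Fin n) a⁻¹ with hg
    have hdet : (g : Matrix (Fin n) (Fin n) F).det = 1 := by
      have h1 : Matrix.GeneralLinearGroup.det g = 1 := by
        rw [hg, map_mul, Matrix.GeneralLinearGroup.det_scalar, Fintype.card_fin, ha, inv_pow, mul_inv_cancel]
      have h2 := congrArg Units.val h1
      simpa using h2
    let s : SpecialLinearGroup (Fin n) F := ⟨(g : Matrix (Fin n) (Fin n) F), hdet⟩
    have hs : Matrix.SpecialLinearGroup.toGL s = g := by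
      apply Units.ext
      rfl
    refine ⟨(QuotientGroup.mk s : ProjectiveSpecialLinearGroup (Fin n) F), ?_⟩
    change MulAut.conj (QuotientGroup.mk s : ProjectiveSpecialLinearGroup (Fin n) F) = dl k
    rw [csAut_conj, hs, hg]
    exact csAut_scalar_mul _ _ _

lemma conj_conj_eq (φ : MulAut (ProjectiveSpecialLinearGroup (Fin n) F)) (a : ProjectiveSpecialLinearGroup (Fin n) F) :
    φ * MulAut.conj a * φ⁻¹ = MulAut.conj (φ a) := by
  ext x
  simp [MulAut.conj_apply, MulAut.inv_def, MulAut.mul_apply]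

/-- The split count in terms of determinants. -/
theorem count_of_T [Fintype F] (hn : 2 ≤ n) (x₀ : MulAut (ProjectiveSpecialLinearGroup (Fin n) F)) (T : Subgroup Fˣ)
    (h1 : ∀ t ∈ T, ∃ u : GL (Fin n) F, Commute (dl u) x₀ ∧ Matrix.GeneralLinearGroup.det u = t)
    (h2 : ∀ u : GL (Fin n) F, Commute (dl u) x₀ → ∃ a : Fˣ, ∃ t ∈ T, Matrix.GeneralLinearGroup.det u = a ^ n * t) :
    Cfsg.splitClassCount (Cfsg.inndiagPSL n F) (Cfsg.Inn (ProjectiveSpecialLinearGroup (Fin n) F)) x₀ =
      Nat.gcd (Nat.card Fˣ / Nat.card T) n := by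
  classical
  rw [inndiag_eq_range]
  have hne : Nonempty (Fin n) := ⟨⟨0, by omega⟩⟩
  set S : Subgroup Fˣ := (powMonoidHom n : Fˣ →* Fˣ).range ⊔ T with hS
  let D : GL (Fin n) F →* Fˣ ⧸ S := (QuotientGroup.mk' S).comp Matrix.GeneralLinearGroup.det
  have hK : Cfsg.Inn (ProjectiveSpecialLinearGroup (Fin n) F) ≤ (dlHom : GL (Fin n) F →* _).range := by
    rintro _ ⟨x, rfl⟩
    obtain ⟨s, rfl⟩ := QuotientGroup.mk_surjective x
    refine ⟨Matrix.SpecialLinearGroup.toGL s, ?_⟩
    exact (csAut_conj s).symm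
  have hnorm : ∀ k ∈ Cfsg.Inn (ProjectiveSpecialLinearGroup (Fin n) F), ∀ g : GL (Fin n) F,
      dlHom g * k * (dlHom g)⁻¹ ∈ Cfsg.Inn (ProjectiveSpecialLinearGroup (Fin n) F) := by
    rintro _ ⟨a, rfl⟩ g
    refine ⟨dlHom g a, ?_⟩
    exact (conj_conj_eq _ _).symm
  have hD : Function.Surjective D := by
    intro y
    obtain ⟨t, rfl⟩ := QuotientGroup.mk'_surjective S y
    obtain ⟨g, rfl⟩ := Matrix.GeneralLinearGroup.det_surjective (n := Fin n) t
    exact ⟨g, rfl⟩
  have hker : ∀ g, D g = 1 ↔ ∃ k u, dlHom k ∈ Cfsg.Inn (ProjectiveSpecialLinearGroup (Fin n) F) ∧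
      Commute (dlHom u) x₀ ∧ g = k * u := by
    intro g
    have h3 : D g = 1 ↔ Matrix.GeneralLinearGroup.det g ∈ S := by
      change (QuotientGroup.mk (Matrix.GeneralLinearGroup.det g) : Fˣ ⧸ S) = 1 ↔ _
      exact QuotientGroup.eq_one_iff _
    rw [h3, hS, Subgroup.mem_sup]
    constructor
    · rintro ⟨_, ⟨a, rfl⟩, t, ht, he⟩
      obtain ⟨u, hu, hdu⟩ := h1 t ht
      refine ⟨g * u⁻¹, u, ?_, hu, by group⟩
      rw [dlHom_apply, dl_mem_inn_iff hn]
      refine ⟨a, ?_⟩
      rw [map_mul, map_inv, hdu, ← he]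
      simp
    · rintro ⟨k, u, hk, hu, rfl⟩
      rw [dlHom_apply, dl_mem_inn_iff hn] at hk
      obtain ⟨a, ha⟩ := hk
      obtain ⟨b, t, ht, hb⟩ := h2 u hu
      refine ⟨(a * b) ^ n, ⟨a * b, rfl⟩, t, ht, ?_⟩
      rw [map_mul, ha, hb, mul_pow, mul_assoc]
  have h4 := split_count (dlHom : GL (Fin n) F →* _) (Cfsg.Inn (ProjectiveSpecialLinearGroup (Fin n) F)) x₀ hK hnorm D hD hker
  rw [h4, hS, card_quot_pow_sup]

/-- Conjugating within `H` does not change the count. -/
lemma splitClassCount_conj {X : Type*} [Group X] (H K : Subgroup X) {U : X} (hU : U ∈ H) (x₀ : X) :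
    Cfsg.splitClassCount H K (U * x₀ * U⁻¹) = Cfsg.splitClassCount H K x₀ := by
  have h : Cfsg.IsConjUnder H (U * x₀ * U⁻¹) = Cfsg.IsConjUnder H x₀ := by
    funext y
    apply propext
    constructor
    · rintro ⟨h, hh, rfl⟩
      exact ⟨h * U, H.mul_mem hh hU, by group⟩
    · rintro ⟨h, hh, rfl⟩
      exact ⟨h * U⁻¹, H.mul_mem hh (H.inv_mem hU), by group⟩
  unfold Cfsg.splitClassCount
  rw [h]

/-- Conjugating within `H` does not change the isomorphism type of the centraliser. -/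
lemma centr_conj_equiv {X : Type*} [Group X] (H : Subgroup X) {U : X} (hU : U ∈ H) (x₀ : X) :
    Nonempty (↥(H ⊓ Subgroup.centralizer {U * x₀ * U⁻¹}) ≃* ↥(H ⊓ Subgroup.centralizer {x₀})) := by
  have h : (H ⊓ Subgroup.centralizer {x₀}).map (MulAut.conj U).toMonoidHom = H ⊓ Subgroup.centralizer {U * x₀ * U⁻¹} := by
    ext y
    constructor
    · rintro ⟨z, ⟨hz1, hz2⟩, rfl⟩
      refine ⟨?_, ?_⟩
      · exact H.mul_mem (H.mul_mem hU hz1) (H.inv_mem hU)
      · have hz2' : z ∈ Subgroup.centralizer {x₀} := hz2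
        rw [Subgroup.mem_centralizer_singleton_iff] at hz2'
        change U * z * U⁻¹ ∈ Subgroup.centralizer {U * x₀ * U⁻¹}
        rw [Subgroup.mem_centralizer_singleton_iff]
        calc U * z * U⁻¹ * (U * x₀ * U⁻¹) = U * (z * x₀) * U⁻¹ := by group
          _ = U * (x₀ * z) * U⁻¹ := by rw [hz2']
          _ = _ := by group
    · rintro ⟨hy1, hy2⟩
      refine ⟨U⁻¹ * y * U, ⟨?_, ?_⟩, ?_⟩
      · exact H.mul_mem (H.mul_mem (H.inv_mem hU) hy1) hU
      · have hy2' : y ∈ Subgroup.centralizer {U * x₀ * U⁻¹} := hy2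
        rw [Subgroup.mem_centralizer_singleton_iff] at hy2'
        change U⁻¹ * y * U ∈ Subgroup.centralizer {x₀}
        rw [Subgroup.mem_centralizer_singleton_iff]
        have e1 : U⁻¹ * y * U * x₀ = U⁻¹ * (y * (U * x₀ * U⁻¹)) * U := by group
        have e2 : x₀ * (U⁻¹ * y * U) = U⁻¹ * ((U * x₀ * U⁻¹) * y) * U := by group
        rw [e1, e2, hy2']
      · change U * (U⁻¹ * y * U) * U⁻¹ = y
        group
  exact ⟨(((MulAut.conj U).subgroupMap (H ⊓ Subgroup.centralizer {x₀})).trans (MulEquiv.subgroupCongr h)).symm⟩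

end PSL

end Cfsg.Agent.Lib.AutPSL
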